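import Mathlib
import Cfsg.Prelude.Def_CaseTheorems
import Cfsg.Prelude.Def_TwoFusion
import Cfsg.Agent.Lib.ExtremelyClosed.Basic
import Cfsg.Agent.Lib.BrauerSuzukiQ.ZStarFinal
import Cfsg.Agent.Lib.PSolvable.Core
import Cfsg.Agent.Lib.Coprime.Quotient

/-!
# A 2-group with a derived central element having the same fixed points

If `G = Q N`, `N` normal, `Q ∩ N = 1`, and `t ∈ Z(Q) ∩ Q'` is non-trivial with `C_N(Q) = C_N(t)`,
then `[N, Q]` has odd order.
-/

set_option autoImplicit false
set_option maxHeartbeats 400000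
set_option linter.unusedSectionVars false

namespace Cfsg.Agent.Lib.NonabelianFixed

open Cfsg
open Cfsg.Agent.Lib
open scoped commutatorElement Pointwise

universe u

variable {G : Type u} [Group G] [Finite G]

/-- An element of `C × Q` is determined by its two factors. -/
theorem eq_of_mul_eq {N Q : Subgroup G} (hdisj : Q ⊓ N = ⊥) {a b x y : G} (ha : a ∈ N) (hb : b ∈ N)
    (hx : x ∈ Q) (hy : y ∈ Q) (h : a * x = b * y) : a = b ∧ x = y := by
  have h1 : b⁻¹ * a = y * x⁻¹ := by
    rw [inv_mul_eq_iff_eq_mul, ← mul_assoc, ← h, mul_inv_cancel_right]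
  have h2 : b⁻¹ * a ∈ Q ⊓ N :=
    ⟨h1 ▸ Q.mul_mem hy (Q.inv_mem hx), N.mul_mem (N.inv_mem hb) ha⟩
  rw [hdisj, Subgroup.mem_bot, inv_mul_eq_one] at h2
  subst h2
  exact ⟨rfl, mul_left_cancel h⟩

/-- A conjugate of `Q` inside `C × Q` has the same `t`. -/
theorem fixed_of_conj_le {N Q : Subgroup G} [N.Normal] (hdisj : Q ⊓ N = ⊥) {t : G} (htQ : t ∈ Q)
    (htc : ∀ q ∈ Q, q * t = t * q) (htd : t ∈ ⁅Q, Q⁆)
    (hC : ∀ x ∈ N, x * t = t * x → ∀ q ∈ Q, q * x = x * q) {m : G} (hm : m ∈ N)
    (hle : ∀ q ∈ Q, ∃ c ∈ N, c * t = t * c ∧ m * q * m⁻¹ = c * q) :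
    m * t * m⁻¹ = t := by
  choose f hfN hft hf using hle
  let F : Q →* G :=
    MonoidHom.mk' (fun q => f q q.2) fun a b => by
      have h : m * ((a : G) * b) * m⁻¹ = (m * a * m⁻¹) * (m * b * m⁻¹) := by group
      rw [hf _ (a * b).2 |> fun e => (show m * ((a : G) * b) * m⁻¹ = _ from e), hf _ a.2, hf _ b.2,
        show f a a.2 * (a : G) * (f b b.2 * b) = f a a.2 * ((a : G) * f b b.2) * b by group,
        hC _ (hfN _ b.2) (hft _ b.2) a a.2] at h
      refine (eq_of_mul_eq hdisj (hfN _ _) (N.mul_mem (hfN _ _) (hfN _ _)) (a * b).2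
        (Q.mul_mem a.2 b.2) ?_).1
      rw [h]
      group
  -- the image is abelian
  have habel : ∀ a b : Q, F a * F b = F b * F a := by
    intro a b
    have h1 : F ⟨t, htQ⟩ * F b = F b * F ⟨t, htQ⟩ := by
      rw [← map_mul, ← map_mul]
      exact congrArg F (Subtype.ext (htc b b.2).symm)
    -- `F b` centralizes `t` and `F t`, hence `m t m⁻¹`
    have h2 : m⁻¹ * F b * m * t = t * (m⁻¹ * F b * m) := by
      have e : m * t * m⁻¹ = F ⟨t, htQ⟩ * t := hf t htQ
      have h3 : F b * (m * t * m⁻¹) = m * t * m⁻¹ * F b := by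
        rw [e, ← mul_assoc, ← h1, mul_assoc, show F b * t = t * F b from hft _ b.2, ← mul_assoc]
      calc m⁻¹ * F b * m * t = m⁻¹ * (F b * (m * t * m⁻¹)) * m := by group
        _ = m⁻¹ * (m * t * m⁻¹ * F b) * m := by rw [h3]
        _ = t * (m⁻¹ * F b * m) := by group
    have hbN : m⁻¹ * F b * m ∈ N := N.mul_mem (N.mul_mem (N.inv_mem hm) (hfN _ b.2)) hm
    have h4 := hC _ hbN h2 a a.2
    have h5 : m * a * m⁻¹ * F b = F b * (m * a * m⁻¹) := by
      calc m * a * m⁻¹ * F b = m * ((a : G) * (m⁻¹ * F b * m)) * m⁻¹ := by group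
        _ = m * (m⁻¹ * F b * m * a) * m⁻¹ := by rw [h4]
        _ = F b * (m * a * m⁻¹) := by group
    rw [hf _ a.2] at h5
    have h6 : (a : G) * F b = F b * a := hC _ (hfN _ b.2) (hft _ b.2) a a.2
    change F a * a * F b = F b * (F a * a) at h5
    rw [mul_assoc, h6, ← mul_assoc, ← mul_assoc] at h5
    exact mul_right_cancel h5
  have hker : ⁅Q, Q⁆ ≤ F.ker.map Q.subtype := by
    rw [Subgroup.commutator_le]
    intro a ha b hb
    refine ⟨⁅(⟨a, ha⟩ : Q), (⟨b, hb⟩ : Q)⁆, MonoidHom.mem_ker.2 ?_, rfl⟩
    rw [map_commutatorElement, commutatorElement_eq_one_iff_mul_comm]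
    exact habel _ _
  obtain ⟨t', ht', he⟩ := hker htd
  have : t' = ⟨t, htQ⟩ := Subtype.ext he
  subst this
  rw [hf t htQ, show f t htQ = 1 from MonoidHom.mem_ker.1 ht', one_mul]

theorem odd_commutator : ∀ (n : ℕ) (G : Type u) [Group G] [Finite G], Nat.card G ≤ n →
    ∀ (N Q : Subgroup G), N.Normal → Q ⊔ N = ⊤ → IsPGroup 2 Q → Q ⊓ N = ⊥ → ∀ t : G, t ≠ 1 →
      t ∈ Q → (∀ q ∈ Q, q * t = t * q) → t ∈ ⁅Q, Q⁆ →
        (∀ x ∈ N, x * t = t * x → ∀ q ∈ Q, q * x = x * q) → Odd (Nat.card ↥⁅N, Q⁆) := by
  intro n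
  induction n with
  | zero =>
    intro G _ _ hn
    have : 0 < Nat.card G := Nat.card_pos
    omega
  | succ n ih =>
    intro G _ _ hn N Q hN hG hQ hdisj t ht1 htQ htc htd hC
    classical
    haveI : Fact (Nat.Prime 2) := ⟨Nat.prime_two⟩
    haveI := hN
    obtain ⟨e, he⟩ := ExtClosed.exists_orderOf_pow hQ htQ
    rcases e with - | e
    · exact absurd (orderOf_eq_one_iff.1 (by simpa using he)) ht1
    set z := t ^ 2 ^ e with hz
    have hz2 : orderOf z = 2 := by
      rw [hz, orderOf_pow' _ (pow_ne_zero _ two_ne_zero), he, pow_succ,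
        Nat.gcd_eq_right (dvd_mul_right _ _), Nat.mul_div_cancel_left _ (pow_pos two_pos _)]
    have hzQ : z ∈ Q := Q.pow_mem htQ _
    have hzc : ∀ q ∈ Q, q * z = z * q := fun q hq =>
      ((show Commute q t from htc q hq).pow_right _).eq
    have hdec : ∀ g : G, ∃ q ∈ Q, ∃ x ∈ N, g = x * q := fun g => by
      obtain ⟨x, hx, q, hq, h⟩ := Subgroup.mem_sup_of_normal_left.1
        ((sup_comm Q N).symm.trans hG ▸ Subgroup.mem_top g : g ∈ N ⊔ Q)
      exact ⟨q, hq, x, hx, h.symm⟩
    set Nz := N ⊓ Subgroup.centralizer ({z} : Set G) with hNz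
    by_cases hall : ∀ x ∈ N, x * z = z * x
    · -- `z` is central
      haveI hZn : (Subgroup.zpowers z).Normal := ⟨fun a ha g => by
        obtain ⟨q, hq, x, hx, rfl⟩ := hdec g
        obtain ⟨i, rfl⟩ := ha
        have hc : Commute (x * q) z :=
          (show Commute x z from hall x hx).mul_left (hzc q hq)
        rw [(hc.zpow_right i).eq, mul_inv_cancel_right]
        exact zpow_mem (Subgroup.mem_zpowers z) i⟩
      by_cases htz : t ∈ Subgroup.zpowers z
      · -- `Q` centralizes `N`
        have hbot : ⁅N, Q⁆ = ⊥ := by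
          rw [Subgroup.commutator_eq_bot_iff_le_centralizer]
          intro x hx
          rw [Subgroup.mem_centralizer_iff]
          refine fun q hq => hC x hx ?_ q hq
          obtain ⟨i, hi⟩ := htz
          change z ^ i = t at hi
          rw [← hi]
          exact ((show Commute x z from hall x hx).zpow_right i).eq
        rw [hbot, Subgroup.card_bot]
        exact odd_one
      · set Z := Subgroup.zpowers z with hZ
        set π := QuotientGroup.mk' Z with hπ
        have hcard : Nat.card (G ⧸ Z) ≤ n := by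
          have h1 := Z.card_eq_card_quotient_mul_card_subgroup
          have h2 : Nat.card Z = 2 := by rw [hZ, Nat.card_zpowers, hz2]
          have h3 : 0 < Nat.card (G ⧸ Z) := Nat.card_pos
          rw [h2] at h1
          omega
        have hZQ : Z ≤ Q := Subgroup.zpowers_le.2 hzQ
        have hinj : ∀ a ∈ N, ∀ b ∈ N, π a = π b → a = b := by
          intro a ha b hb h
          have h1 : a⁻¹ * b ∈ Z := (QuotientGroup.eq).1 h
          have h2 : a⁻¹ * b ∈ Q ⊓ N := ⟨hZQ h1, N.mul_mem (N.inv_mem ha) hb⟩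
          rw [hdisj, Subgroup.mem_bot, inv_mul_eq_one] at h2
          exact h2
        have h := ih (G ⧸ Z) hcard (N.map π) (Q.map π)
          (hN.map π (QuotientGroup.mk'_surjective Z))
          (by rw [← Subgroup.map_sup, hG, Subgroup.map_top_of_surjective _
            (QuotientGroup.mk'_surjective Z)]) (hQ.map π) ?_ (π t)
          (fun h => htz ((QuotientGroup.eq_one_iff t).1 h)) (Subgroup.mem_map_of_mem π htQ)
          ?_ (by rw [← Subgroup.map_commutator]; exact Subgroup.mem_map_of_mem π htd) ?_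
        · rw [← Subgroup.map_commutator] at h
          have hcN : ⁅N, Q⁆ ≤ N := Subgroup.commutator_le_left _ _
          rwa [Nat.card_congr (Equiv.ofBijective
            (fun a : (⁅N, Q⁆ : Subgroup G) => (⟨π a, Subgroup.mem_map_of_mem π a.2⟩ : ((⁅N, Q⁆ : Subgroup G).map π : Subgroup (G ⧸ Z)))) ⟨?_, ?_⟩)]
          · intro a b hab
            exact Subtype.ext (hinj a (hcN a.2) b (hcN b.2) (congrArg Subtype.val hab))
          · rintro ⟨_, a, ha, rfl⟩
            exact ⟨⟨a, ha⟩, rfl⟩
        · rw [Subgroup.eq_bot_iff_forall]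
          rintro _ ⟨⟨a, ha, rfl⟩, ⟨b, hb, hab⟩⟩
          have h1 : b⁻¹ * a ∈ Z := (QuotientGroup.eq).1 hab
          have h2 : b ∈ Q := by
            have := Q.mul_mem ha (Q.inv_mem (hZQ h1))
            simpa using this
          have h3 : b ∈ Q ⊓ N := ⟨h2, hb⟩
          rw [hdisj, Subgroup.mem_bot] at h3
          rw [← hab, h3, map_one]
        · rintro _ ⟨q, hq, rfl⟩
          rw [← map_mul, ← map_mul, htc q hq]
        · rintro _ ⟨x, hx, rfl⟩ hxt _ ⟨q, hq, rfl⟩
          rw [← map_mul, ← map_mul] at hxt ⊢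
          have hx' : x * t * x⁻¹ * t⁻¹ = 1 := by
            have h1 : x * t * x⁻¹ * t⁻¹ ∈ N := by
              have := N.mul_mem hx (hN.conj_mem _ (N.inv_mem hx) t)
              simpa [mul_assoc] using this
            have h2 : π (x * t * x⁻¹ * t⁻¹) = π 1 := by
              rw [map_one, show x * t * x⁻¹ * t⁻¹ = (x * t) * (t * x)⁻¹ by group, map_mul π (x * t),
                map_inv, hxt, mul_inv_cancel]
            exact hinj _ h1 _ N.one_mem h2
          rw [hC x hx (mul_inv_eq_iff_eq_mul.1 (mul_inv_eq_one.1 hx')) q hq]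
    · -- the centralizer of `z` is smaller
      have hQN : ∀ q ∈ Q, ∀ x ∈ Nz, q * x * q⁻¹ ∈ Nz := fun q hq x hx => by
        refine ⟨hN.conj_mem x hx.1 q, Subgroup.mem_centralizer_singleton_iff.2 ?_⟩
        have hqz : Commute q z := hzc q hq
        exact ((hqz.mul_left (Subgroup.mem_centralizer_singleton_iff.1 hx.2)).mul_left
          hqz.inv_left).eq
      set Y := Subgroup.centralizer ({z} : Set G) with hY
      have hQY : Q ≤ Y := fun q hq => Subgroup.mem_centralizer_singleton_iff.2 (hzc q hq)
      have hNzY : Nz ≤ Y := inf_le_right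
      have hYlt : Nat.card Y < Nat.card G := by
        refine lt_of_le_of_ne (Subgroup.card_le_card_group Y) fun h => hall fun x _ => ?_
        exact Subgroup.mem_centralizer_singleton_iff.1
          ((Subgroup.eq_top_of_card_eq Y h).symm ▸ Subgroup.mem_top x : x ∈ Y)
      have hsupY : Q.subgroupOf Y ⊔ Nz.subgroupOf Y = ⊤ := by
        rw [eq_top_iff]
        intro y _
        obtain ⟨q, hq, x, hx, hg⟩ := hdec (y : G)
        have hxY : x ∈ Y := by
          have : x = (y : G) * q⁻¹ := by rw [hg, mul_inv_cancel_right]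
          rw [this]
          exact Y.mul_mem y.2 (Y.inv_mem (hQY hq))
        have he' : y = (⟨x, hxY⟩ : Y) * ⟨q, hQY hq⟩ := Subtype.ext hg
        rw [he']
        exact mul_mem (Subgroup.mem_sup_right (Subgroup.mem_subgroupOf.2 ⟨hx, hxY⟩))
          (Subgroup.mem_sup_left (Subgroup.mem_subgroupOf.2 hq))
      have hnormY : (Nz.subgroupOf Y).Normal := ⟨fun x hx y => by
        refine Subgroup.mem_subgroupOf.2 ⟨?_, ?_⟩
        · push_cast
          exact hN.conj_mem _ (Subgroup.mem_subgroupOf.1 hx).1 _
        · exact (y * x * y⁻¹).2⟩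
      have hcommY : t ∈ (⁅Q.subgroupOf Y, Q.subgroupOf Y⁆).map Y.subtype := by
        rw [Subgroup.map_commutator, Subgroup.map_subgroupOf_eq_of_le hQY]
        exact htd
      obtain ⟨t', ht', hte⟩ := hcommY
      have htY : t' = ⟨t, hQY htQ⟩ := Subtype.ext hte
      subst htY
      have h := ih Y (by omega) (Nz.subgroupOf Y) (Q.subgroupOf Y) hnormY hsupY
        (hQ.of_equiv (Subgroup.subgroupOfEquivOfLe hQY).symm) ?_ ⟨t, hQY htQ⟩
        (fun h => ht1 (congrArg Subtype.val h)) (Subgroup.mem_subgroupOf.2 htQ)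
        (fun q hq => Subtype.ext (htc q (Subgroup.mem_subgroupOf.1 hq))) ht'
        (fun x hx hxt q hq => Subtype.ext (hC x (Subgroup.mem_subgroupOf.1 hx).1
          (congrArg Subtype.val hxt) q (Subgroup.mem_subgroupOf.1 hq)))
      swap
      · rw [Subgroup.eq_bot_iff_forall]
        rintro x ⟨hxQ, hxN⟩
        have : (x : G) ∈ Q ⊓ N := ⟨Subgroup.mem_subgroupOf.1 hxQ, (Subgroup.mem_subgroupOf.1 hxN).1⟩
        rw [hdisj, Subgroup.mem_bot] at this
        exact Subtype.ext this
      set K := ⁅Nz, Q⁆ with hK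
      have hKodd : Odd (Nat.card K) := by
        have e1 : K = (⁅Nz.subgroupOf Y, Q.subgroupOf Y⁆).map Y.subtype := by
          rw [Subgroup.map_commutator, Subgroup.map_subgroupOf_eq_of_le hQY,
            Subgroup.map_subgroupOf_eq_of_le hNzY]
        rw [e1, Subgroup.card_map_of_injective Y.subtype_injective]
        exact h
      have hQNz : Q ≤ Subgroup.normalizer (Nz : Set G) := fun q hq =>
        ExtClosed.mem_normalizer_of_cnj_eq (Subgroup.eq_of_le_of_card_ge
          (by rintro _ ⟨x, hx, rfl⟩; exact hQN q hq x hx)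
          (le_of_eq (Subgroup.card_map_of_injective (MulAut.conj _).injective).symm))
      have hKN : K ≤ Nz := by
        rw [hK, Subgroup.commutator_le]
        intro a ha b hb
        have := Nz.mul_mem ha (hQN b hb a⁻¹ (Nz.inv_mem ha))
        simpa [commutatorElement_def, mul_assoc] using this
      have hNzK : ∀ x ∈ Nz, ∀ k ∈ K, x * k * x⁻¹ ∈ K := by
        intro x hx k hk
        have h1 : K ≤ Subgroup.comap (MulAut.conj x).toMonoidHom K := by
          rw [hK, Subgroup.commutator_le]
          intro a ha b hb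
          show x * ⁅a, b⁆ * x⁻¹ ∈ ⁅Nz, Q⁆
          have e1 : x * ⁅a, b⁆ * x⁻¹ = ⁅x * a, b⁆ * ⁅x, b⁆⁻¹ := by
            simp only [commutatorElement_def]; group
          rw [e1]
          exact mul_mem (Subgroup.commutator_mem_commutator (Nz.mul_mem hx ha) hb)
            (inv_mem (Subgroup.commutator_mem_commutator hx hb))
        exact h1 hk
      -- a 2-element of `Nz` is conjugate under `K` to one centralized by `Q`
      have hcent : ∀ R : Subgroup G, IsPGroup 2 R → R ≤ Y →
          (∀ r ∈ R, ∀ q ∈ Q, ∀ x ∈ N, r = x * q → x ∈ Nz) →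
          ∃ k ∈ K, ∀ r ∈ R, ∀ q ∈ Q, ∀ x ∈ N, k * r * k⁻¹ = x * q → x * t = t * x := by
        intro R hR hRY _
        -- Sylow subgroups of `Y` inside `K C Q`
        set C := N ⊓ Subgroup.centralizer (Q : Set G) with hCdef
        set W := C ⊔ Q with hW
        have hWY : W ≤ Y := sup_le (fun c hc => Subgroup.mem_centralizer_singleton_iff.2
          (Subgroup.mem_centralizer_iff.1 hc.2 z hzQ).symm) hQY
        let Ks : Subgroup Y := K.subgroupOf Y
        haveI hKs : Ks.Normal := by
          refine ⟨fun k hk y => ?_⟩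
          obtain ⟨q, hq, x, hx, hg⟩ := hdec (y : G)
          have hxY : x ∈ Y := by
            have : x = (y : G) * q⁻¹ := by rw [hg, mul_inv_cancel_right]
            rw [this]
            exact Y.mul_mem y.2 (Y.inv_mem (hQY hq))
          refine Subgroup.mem_subgroupOf.2 ?_
          have hk' := Subgroup.mem_subgroupOf.1 hk
          have hqK : q * (k : G) * q⁻¹ ∈ K := by
            have h1 : K ≤ Subgroup.comap (MulAut.conj q).toMonoidHom K := by
              rw [hK, Subgroup.commutator_le]
              intro a ha b hb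
              show q * ⁅a, b⁆ * q⁻¹ ∈ ⁅Nz, Q⁆
              have e1 : q * ⁅a, b⁆ * q⁻¹ = ⁅q * a * q⁻¹, q * b * q⁻¹⁆ := by
                simp only [commutatorElement_def]; group
              rw [e1]
              exact Subgroup.commutator_mem_commutator (hQN q hq a ha)
                (Q.mul_mem (Q.mul_mem hq hb) (Q.inv_mem hq))
            exact h1 hk'
          have := hNzK x ⟨hx, hxY⟩ _ hqK
          push_cast
          rw [hg]
          simpa [mul_assoc] using this
        have hKY : K ≤ Y := hKN.trans hNzY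
        have hsplit : ∀ y : Y, ∃ k ∈ Ks, ∃ w ∈ W.subgroupOf Y, y = k * w := by
          intro y
          obtain ⟨q, hq, x, hx, hg⟩ := hdec (y : G)
          have hxY : x ∈ Y := by
            have : x = (y : G) * q⁻¹ := by rw [hg, mul_inv_cancel_right]
            rw [this]
            exact Y.mul_mem y.2 (Y.inv_mem (hQY hq))
          have hcop : (Nat.card Q).Coprime (Nat.card K) := by
            obtain ⟨i, hi⟩ := hQ.exists_card_eq
            rw [hi]
            exact Nat.Coprime.pow_left _ (Nat.coprime_two_left.2 hKodd)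
          have hsolv : Group.IsSolvable Q := by
            haveI := hQ.isNilpotent
            infer_instance
          obtain ⟨k, hk, c, hc, hxe⟩ :=
            Coprime.mem_commutator_mul_centralizer hQNz hcop (Or.inl hsolv)
              (show x ∈ Nz from ⟨hx, hxY⟩)
          have hcC : c ∈ C := ⟨hc.1.1, hc.2⟩
          refine ⟨⟨k, hKY hk⟩, Subgroup.mem_subgroupOf.2 hk,
            ⟨c * q, hWY (mul_mem (Subgroup.mem_sup_left hcC) (Subgroup.mem_sup_right hq))⟩,
            Subgroup.mem_subgroupOf.2
              (mul_mem (Subgroup.mem_sup_left hcC) (Subgroup.mem_sup_right hq)), ?_⟩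
          apply Subtype.ext
          push_cast
          rw [hg, hxe]
          group
        let Ws : Subgroup Y := W.subgroupOf Y
        obtain ⟨P⟩ : Nonempty (Sylow 2 Ws) := inferInstance
        have hidx : ¬ 2 ∣ Ws.index := by
          intro hd
          have htop : Ks ⊔ Ws = ⊤ := eq_top_iff.2 fun y _ => by
            obtain ⟨k, hk, w, hw, rfl⟩ := hsplit y
            exact mul_mem (Subgroup.mem_sup_left hk) (Subgroup.mem_sup_right hw)
          have h1 : Ws.index ∣ Nat.card Ks := by
            have e1 : Ks.index = Ks.relIndex Ws := by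
              rw [← Subgroup.relIndex_top_right Ks, ← htop, Subgroup.relIndex_sup_left]
            have e2 : Ws.index * Nat.card Ws ∣ Nat.card Ks * Nat.card Ws := by
              rw [mul_comm Ws.index, Subgroup.card_mul_index, ← Ks.card_mul_index, e1]
              exact Nat.mul_dvd_mul_left _ (Subgroup.relIndex_dvd_card Ks Ws)
            exact (Nat.mul_dvd_mul_iff_right Nat.card_pos).1 e2
          have h2 : Nat.card Ks = Nat.card K :=
            Nat.card_congr (Subgroup.subgroupOfEquivOfLe hKY).toEquiv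
          rw [h2] at h1
          exact Nat.not_even_iff_odd.2 hKodd (even_iff_two_dvd.2 (hd.trans h1))
        have hPs : ¬ 2 ∣ ((P : Subgroup Ws).map Ws.subtype).index := by
          rw [Subgroup.index_map_subtype]
          intro hd
          rcases Nat.prime_two.dvd_mul.1 hd with h | h
          · exact P.not_dvd_index h
          · exact hidx h
        let P' : Sylow 2 Y := (P.2.map Ws.subtype).toSylow hPs
        obtain ⟨R', hR'⟩ := (hR.of_equiv (Subgroup.subgroupOfEquivOfLe hRY).symm).exists_le_sylow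
        obtain ⟨y, hy⟩ := MulAction.exists_smul_eq Y P' R'
        obtain ⟨k, hk, w, hw, rfl⟩ := hsplit y
        refine ⟨(k : G)⁻¹, K.inv_mem (Subgroup.mem_subgroupOf.1 hk), fun r hr q hq x hx hxq => ?_⟩
        have h1 : (⟨r, hRY hr⟩ : Y) ∈ MulAut.conj (k * w) • (P' : Subgroup Y) := by
          rw [← Sylow.coe_subgroup_smul, hy]
          exact hR' (Subgroup.mem_subgroupOf.2 hr)
        obtain ⟨p, hp, hpe⟩ := Subgroup.mem_smul_pointwise_iff_exists _ _ _ |>.1 h1
        have hpW : p ∈ Ws := by
          obtain ⟨p', -, rfl⟩ := hp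
          exact p'.2
        have hW' : (k : G)⁻¹ * r * (k : G) ∈ W := by
          have e1 : (k : G) * w * p * ((k : G) * w)⁻¹ = r := congrArg Subtype.val hpe
          have : (k : G)⁻¹ * r * (k : G) = (w : G) * p * (w : G)⁻¹ := by rw [← e1]; group
          rw [this]
          exact W.mul_mem (W.mul_mem (Subgroup.mem_subgroupOf.1 hw) (Subgroup.mem_subgroupOf.1 hpW))
            (W.inv_mem (Subgroup.mem_subgroupOf.1 hw))
        rw [inv_inv] at hxq
        rw [hxq] at hW'
        have hQC : Q ≤ Subgroup.normalizer (C : Set G) := fun a ha =>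
          ExtClosed.mem_normalizer_of_cnj_eq (Subgroup.eq_of_le_of_card_ge
            (by
              rintro _ ⟨c, hc, rfl⟩
              show a * c * a⁻¹ ∈ C
              rw [Subgroup.mem_centralizer_iff.1 hc.2 a ha, mul_inv_cancel_right]
              exact hc)
            (le_of_eq (Subgroup.card_map_of_injective (MulAut.conj _).injective).symm))
        have hW'' : x * q ∈ ((C ⊔ Q : Subgroup G) : Set G) := hW'
        rw [sup_comm, Subgroup.coe_mul_of_left_le_normalizer_right Q C hQC] at hW''
        obtain ⟨q', hq', c', hc', he'⟩ := hW''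
        have := Subgroup.mem_centralizer_iff.1 hc'.2 q' hq'
        change q' * c' = x * q at he'
        rw [this] at he'
        rw [(eq_of_mul_eq hdisj hx hc'.1 hq hq' he'.symm).1]
        exact (Subgroup.mem_centralizer_iff.1 hc'.2 t htQ).symm
      -- `z` is isolated
      have hiso : IsIsolatedInvolution z := by
        refine ⟨hz2, fun g hg => ?_⟩
        obtain ⟨q, hq, m, hm, rfl⟩ := hdec g
        have hgq : m * q * z * (m * q)⁻¹ = m * z * m⁻¹ := by
          rw [mul_assoc m q z, hzc q hq]; group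
        rw [hgq] at hg ⊢
        -- move the conjugate into `C × Q`
        set R := Subgroup.zpowers (m * z * m⁻¹) with hR
        have hRY : R ≤ Y := Subgroup.zpowers_le.2
          (Subgroup.mem_centralizer_singleton_iff.2 hg.eq.symm)
        have hR2 : IsPGroup 2 R := IsPGroup.of_card (n := 1) (by
          rw [hR, Nat.card_zpowers, show m * z * m⁻¹ = MulAut.conj m z from rfl,
            MulEquiv.orderOf_eq, hz2, pow_one])
        have hvac : ∀ S : Subgroup G, S ≤ Y →
            ∀ r ∈ S, ∀ q ∈ Q, ∀ x ∈ N, r = x * q → x ∈ Nz := fun S hS r hr q hq x hx he =>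
          ⟨hx, by
            have : x = r * q⁻¹ := by rw [he, mul_inv_cancel_right]
            rw [this]
            exact Y.mul_mem (hS hr) (Y.inv_mem (hQY hq))⟩
        obtain ⟨k, hk, hkc⟩ := hcent R hR2 hRY (hvac R hRY)
        have hkN : k ∈ N := (hKN hk).1
        have hkz : k * z = z * k := Subgroup.mem_centralizer_singleton_iff.1 (hKN hk).2
        set m₁ := k * m with hm₁
        have hm₁N : m₁ ∈ N := N.mul_mem hkN hm
        obtain ⟨c, hcN, hce⟩ : ∃ c ∈ N, k * (m * z * m⁻¹) * k⁻¹ = c * z := by
          refine ⟨m₁ * z * m₁⁻¹ * z⁻¹, ?_, ?_⟩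
          · have := N.mul_mem hm₁N (hN.conj_mem _ (N.inv_mem hm₁N) z)
            simpa [mul_assoc] using this
          · rw [hm₁]; group
        have hct := hkc _ (Subgroup.mem_zpowers _) z hzQ c hcN hce
        have hcQ := hC c hcN hct
        -- `Q` centralizes the conjugate
        have hQm : ∀ a ∈ Q, m₁⁻¹ * a * m₁ ∈ Y := by
          intro a ha
          rw [Subgroup.mem_centralizer_singleton_iff]
          have h1 : Commute a (m₁ * z * m₁⁻¹) := by
            rw [show m₁ * z * m₁⁻¹ = k * (m * z * m⁻¹) * k⁻¹ by rw [hm₁]; group, hce]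
            exact (show Commute a c from hcQ a ha).mul_right (hzc a ha)
          calc m₁⁻¹ * a * m₁ * z = m₁⁻¹ * (a * (m₁ * z * m₁⁻¹)) * m₁ := by group
            _ = m₁⁻¹ * (m₁ * z * m₁⁻¹ * a) * m₁ := by rw [h1.eq]
            _ = z * (m₁⁻¹ * a * m₁) := by group
        set R₂ := Q.map (MulAut.conj m₁⁻¹).toMonoidHom with hR₂
        have hR₂Y : R₂ ≤ Y := by
          rintro _ ⟨a, ha, rfl⟩
          show m₁⁻¹ * a * m₁⁻¹⁻¹ ∈ Y
          rw [inv_inv]
          exact hQm a ha
        obtain ⟨k₂, hk₂, hk₂c⟩ := hcent R₂ (hQ.map _) hR₂Y (hvac R₂ hR₂Y)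
        set m₂ := k₂ * m₁⁻¹ with hm₂
        have hm₂N : m₂ ∈ N := N.mul_mem (hKN hk₂).1 (N.inv_mem hm₁N)
        have hfix := fixed_of_conj_le hdisj htQ htc htd hC hm₂N fun a ha => by
          refine ⟨m₂ * a * m₂⁻¹ * a⁻¹, ?_, ?_, by group⟩
          · have := N.mul_mem hm₂N (hN.conj_mem _ (N.inv_mem hm₂N) a)
            simpa [mul_assoc] using this
          · refine hk₂c (m₁⁻¹ * a * m₁⁻¹⁻¹) ⟨a, ha, rfl⟩ a ha _ ?_ ?_
            · have := N.mul_mem hm₂N (hN.conj_mem _ (N.inv_mem hm₂N) a)
              simpa [mul_assoc] using this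
            · rw [hm₂]; group
        have hzfix : m₂ * z * m₂⁻¹ = z := by rw [hz, ← conj_pow, hfix]
        have hk₂z : k₂ * z = z * k₂ := Subgroup.mem_centralizer_singleton_iff.1 (hKN hk₂).2
        have h1 : m₁ * z * m₁⁻¹ = z := by
          have e1 : k₂ * (m₁⁻¹ * z * m₁) * k₂⁻¹ = z := by
            conv_rhs => rw [← hzfix]
            rw [hm₂]; group
          have e2 : m₁⁻¹ * z * m₁ = z := by
            calc m₁⁻¹ * z * m₁ = k₂⁻¹ * (k₂ * (m₁⁻¹ * z * m₁) * k₂⁻¹) * k₂ := by group
              _ = k₂⁻¹ * (z * k₂) := by rw [e1, mul_assoc]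
              _ = z := by rw [← hk₂z, inv_mul_cancel_left]
          calc m₁ * z * m₁⁻¹ = m₁ * (m₁⁻¹ * z * m₁) * m₁⁻¹ := by rw [e2]
            _ = z := by group
        calc m * z * m⁻¹ = k⁻¹ * (m₁ * z * m₁⁻¹) * k := by rw [hm₁]; group
          _ = k⁻¹ * (z * k) := by rw [h1, mul_assoc]
          _ = z := by rw [← hkz, inv_mul_cancel_left]
      -- conclude
      haveI := PSolvable.pPrimeCore_characteristic (p := 2) (G := G)
      set O := oddCore G with hOdef
      have hOodd : Odd (Nat.card O) := Nat.coprime_two_right.1 PSolvable.pPrimeCore_coprime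
      have hsplitN : ∀ x ∈ N, ∃ o ∈ O, ∃ y ∈ Nz, x = o * y := by
        intro x hx
        have hzg := BrauerSuzukiQ.zstar hiso
        -- Frattini argument
        set L := O ⊔ Subgroup.zpowers z with hL
        have hzL : z ∈ L := Subgroup.mem_sup_right (Subgroup.mem_zpowers z)
        have hxz : x * z * x⁻¹ ∈ L := by
          have h1 := O.inv_mem (hzg x)
          have : x * z * x⁻¹ = (z * x * z⁻¹ * x⁻¹)⁻¹ * z := by group
          rw [this]
          exact L.mul_mem (Subgroup.mem_sup_left h1) hzL
        have hOz : Subgroup.zpowers z ≤ Subgroup.normalizer (O : Set G) := fun a _ => by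
          rw [Subgroup.normalizer_eq_top]; exact Subgroup.mem_top a
        have hzg2 : orderOf (x * z * x⁻¹) = 2 := by
          rw [show x * z * x⁻¹ = MulAut.conj x z from rfl, MulEquiv.orderOf_eq, hz2]
        -- Sylow subgroups of `L` are conjugate under `O`
        haveI hLn : (O.subgroupOf L).Normal := inferInstance
        let S₁ : Subgroup L := (Subgroup.zpowers z).subgroupOf L
        let S₂ : Subgroup L := (Subgroup.zpowers (x * z * x⁻¹)).subgroupOf L
        have hS : ∀ w : G, orderOf w = 2 → (hw : w ∈ L) →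
            Nat.card ((Subgroup.zpowers w).subgroupOf L) = 2 := fun w h2 hw => by
          rw [Nat.card_congr (Subgroup.subgroupOfEquivOfLe (Subgroup.zpowers_le.2 hw)).toEquiv,
            Nat.card_zpowers, h2]
        have hLcard : Nat.card L ∣ 2 * Nat.card O := by
          have h1 : Nat.card O * O.relIndex L = Nat.card L := PSolvable.card_mul_relIndex le_sup_left
          rw [← h1, hL, sup_comm, Subgroup.relIndex_sup_right, mul_comm 2]
          refine Nat.mul_dvd_mul_left _ ?_
          have := Subgroup.relIndex_dvd_card O (Subgroup.zpowers z)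
          rwa [Nat.card_zpowers, hz2] at this
        have hidx : ∀ w : G, orderOf w = 2 → (hw : w ∈ L) →
            ¬ 2 ∣ ((Subgroup.zpowers w).subgroupOf L).index := by
          intro w h2 hw hd
          have h1 := ((Subgroup.zpowers w).subgroupOf L).card_mul_index
          rw [hS w h2 hw] at h1
          have h4 : 2 * ((Subgroup.zpowers w).subgroupOf L).index ∣ 2 * Nat.card O := h1 ▸ hLcard
          exact Nat.not_even_iff_odd.2 hOodd
            (even_iff_two_dvd.2 (hd.trans ((Nat.mul_dvd_mul_iff_left two_pos).1 h4)))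
        let P₁ : Sylow 2 L := (IsPGroup.of_card (n := 1) (by rw [hS z hz2 hzL, pow_one])).toSylow
          (hidx z hz2 hzL)
        let P₂ : Sylow 2 L := (IsPGroup.of_card (n := 1) (by rw [hS _ hzg2 hxz, pow_one])).toSylow
          (hidx _ hzg2 hxz)
        obtain ⟨l, hl⟩ := MulAction.exists_smul_eq L P₁ P₂
        have hmem : (⟨x * z * x⁻¹, hxz⟩ : L) ∈ MulAut.conj l • (P₁ : Subgroup L) := by
          rw [← Sylow.coe_subgroup_smul, hl]
          exact Subgroup.mem_subgroupOf.2 (Subgroup.mem_zpowers (x * z * x⁻¹))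
        obtain ⟨p, hp, hpe⟩ := (Subgroup.mem_smul_pointwise_iff_exists _ _ _).1 hmem
        have hpz : (p : G) ∈ Subgroup.zpowers z := Subgroup.mem_subgroupOf.1 hp
        have e1 : (l : G) * p * (l : G)⁻¹ = x * z * x⁻¹ := congrArg Subtype.val hpe
        have hlO : (l : G) ∈ ((Subgroup.zpowers z ⊔ O : Subgroup G) : Set G) := by
          rw [sup_comm]; exact l.2
        rw [Subgroup.coe_mul_of_left_le_normalizer_right _ O hOz] at hlO
        obtain ⟨a, ha, o, ho, hao⟩ := hlO
        change a * o = (l : G) at hao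
        -- write `l = o' * a`
        set o' := a * o * a⁻¹ with ho'
        have ho'O : o' ∈ O :=
          (Subgroup.mem_normalizer_iff.1 (hOz ha) o).1 ho
        have hpz' : p.1 = z := by
          have h2 : orderOf p.1 = 2 := by
            rw [← MulEquiv.orderOf_eq (MulAut.conj (l : G)), MulAut.conj_apply, e1, hzg2]
          obtain ⟨i, hi⟩ := hpz
          change z ^ i = p.1 at hi
          rcases Int.even_or_odd i with ⟨j, rfl⟩ | ⟨j, rfl⟩
          · rw [← hi, ← two_mul, zpow_mul, zpow_ofNat, ← hz2, pow_orderOf_eq_one, one_zpow,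
              orderOf_one] at h2
            omega
          · rw [← hi, zpow_add, zpow_mul, zpow_ofNat, ← hz2, pow_orderOf_eq_one, one_zpow, one_mul,
              zpow_one]
        have haz : a * z = z * a := by
          obtain ⟨i, rfl⟩ := ha
          exact (Commute.zpow_self z i).eq
        have e2 : x * z * x⁻¹ = o' * z * o'⁻¹ := by
          rw [← e1, hpz', ← hao, show a * o = o' * a by rw [ho']; group,
            show o' * a * z * (o' * a)⁻¹ = o' * (a * z * a⁻¹) * o'⁻¹ by group, haz,
            mul_inv_cancel_right]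
        have hy : o'⁻¹ * x ∈ Y := by
          rw [Subgroup.mem_centralizer_singleton_iff]
          calc o'⁻¹ * x * z = o'⁻¹ * (x * z * x⁻¹) * x := by group
            _ = z * (o'⁻¹ * x) := by rw [e2]; group
        obtain ⟨q, hq, y, hy', hye⟩ := hdec (o'⁻¹ * x)
        have hyY : y ∈ Y := by
          have : y = o'⁻¹ * x * q⁻¹ := by rw [hye, mul_inv_cancel_right]
          rw [this]
          exact Y.mul_mem hy (Y.inv_mem (hQY hq))
        -- `q` lies in `O N ∩ Q`, hence is trivial
        have hqON : q ∈ O ⊔ N := by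
          have : q = y⁻¹ * (o'⁻¹ * x) := by rw [hye, inv_mul_cancel_left]
          rw [this]
          exact mul_mem (inv_mem (Subgroup.mem_sup_right hy'))
            (mul_mem (inv_mem (Subgroup.mem_sup_left ho'O)) (Subgroup.mem_sup_right hx))
        have hq1 : q = 1 := by
          set π := QuotientGroup.mk' N
          have h1 : π q ∈ O.map π := by
            have := Subgroup.mem_map_of_mem π hqON
            rwa [Subgroup.map_sup, QuotientGroup.map_mk'_self, sup_bot_eq] at this
          have h2 : Odd (orderOf (π q)) := by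
            obtain ⟨o1, ho1, he1⟩ := h1
            rw [← he1]
            exact (ExtClosed.odd_orderOf_of_mem hOodd ho1).of_dvd_nat (orderOf_map_dvd π o1)
          have h3 : π q = 1 := by
            refine ExtClosed.eq_one_of_odd_mem (hQ.map π) (Subgroup.mem_map_of_mem π hq) h2
          have h4 : q ∈ Q ⊓ N := ⟨hq, (QuotientGroup.eq_one_iff q).1 h3⟩
          rwa [hdisj, Subgroup.mem_bot] at h4
        rw [hq1, mul_one] at hye
        exact ⟨o', ho'O, y, ⟨hy', hyY⟩, by rw [← hye, mul_inv_cancel_left]⟩
      -- `K` maps into the trivial odd core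
      have hKO : K ≤ O := by
        set π := QuotientGroup.mk' O with hπ
        have hb : K.map π ≤ oddCore (G ⧸ O) := by
          haveI hKn : (K.map π).Normal := by
            refine ⟨fun a ha g => ?_⟩
            obtain ⟨g, rfl⟩ := QuotientGroup.mk'_surjective O g
            obtain ⟨k, hk, rfl⟩ := ha
            obtain ⟨q, hq, x, hx, rfl⟩ := hdec g
            obtain ⟨o, ho, y, hy, rfl⟩ := hsplitN x hx
            have hqk : q * k * q⁻¹ ∈ K := by
              have h1 : K ≤ Subgroup.comap (MulAut.conj q).toMonoidHom K := by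
                rw [hK, Subgroup.commutator_le]
                intro a ha b hb
                show q * ⁅a, b⁆ * q⁻¹ ∈ ⁅Nz, Q⁆
                have e1 : q * ⁅a, b⁆ * q⁻¹ = ⁅q * a * q⁻¹, q * b * q⁻¹⁆ := by
                  simp only [commutatorElement_def]; group
                rw [e1]
                exact Subgroup.commutator_mem_commutator (hQN q hq a ha)
                  (Q.mul_mem (Q.mul_mem hq hb) (Q.inv_mem hq))
              exact h1 hk
            refine ⟨y * (q * k * q⁻¹) * y⁻¹, hNzK y hy _ hqk, ?_⟩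
            have ho1 : π o = 1 := (QuotientGroup.eq_one_iff o).2 ho
            simp only [← hπ, map_mul, map_inv, ho1, one_mul]
            group
          refine PSolvable.le_pPrimeCore (Nat.coprime_two_right.2 ?_)
          exact hKodd.of_dvd_nat (Subgroup.card_map_dvd K π)
        rw [show oddCore (G ⧸ O) = ⊥ from PSolvable.pPrimeCore_quotient_eq_bot, le_bot_iff,
          Subgroup.map_eq_bot_iff, QuotientGroup.ker_mk'] at hb
        exact hb
      have hle : ⁅N, Q⁆ ≤ O := by
        rw [Subgroup.commutator_le]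
        intro x hx q hq
        obtain ⟨o, ho, y, hy, rfl⟩ := hsplitN x hx
        have hOn : O.Normal := inferInstance
        have e1 : ⁅o * y, q⁆ = o * ⁅y, q⁆ * (q * o⁻¹ * q⁻¹) := by
          simp only [commutatorElement_def]; group
        rw [e1]
        exact O.mul_mem (O.mul_mem ho (hKO (Subgroup.commutator_mem_commutator hy hq)))
          (hOn.conj_mem _ (O.inv_mem ho) q)
      exact hOodd.of_dvd_nat (Subgroup.card_dvd_of_le hle)

end Cfsg.Agent.Lib.NonabelianFixed
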